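import Cfsg.Agent.Lib.CosetEnum.Fi23x31671.Data
import Cfsg.Agent.Lib.CosetEnum.Fi23Orbit.Data
import Cfsg.Agent.Lib.Fi23Frame52.Data

/-! Kernel checks for the frame certificate. -/

set_option autoImplicit false
set_option maxRecDepth 20000
set_option Elab.async false

namespace Cfsg.Agent.Lib.Fi23Frame52

open Cfsg.Agent.Lib.CosetEnum

/-- A bit field. -/
def fld (b n i : ℕ) : ℕ := Nat.mod (Nat.shiftRight n (Nat.mul b i)) (Nat.pow 2 b)

/-- Frame point. -/
def fr (j : ℕ) : ℕ := fld 16 frameP j

/-- Auxiliary point. -/
def pt (s : ℕ) : ℕ := fld 16 ptsP s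

/-- The word of the transposition of frame point `j`. -/
def fWord (j : ℕ) : List ℕ := (pathW.getD j []).reverse ++ Fi23Orbit.zWord ++ pathW.getD j []

/-- A transposition on the auxiliary points. -/
def im (j s : ℕ) : ℕ := fld 8 (img.getD j 0) s

/-- The transposition index of a basis element. -/
def bas (k : ℕ) : ℕ := fld 5 basisP k

/-- Coordinates of a transposition. -/
def vec (j : ℕ) : ℕ := fld 12 vecP j

/-- Permutation `k` of the frame. -/
def pim (k j : ℕ) : ℕ := fld 5 (code.getD k 0) j

/-- The permutation of generator `i`. -/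
def gid (i : ℕ) : ℕ := fld 8 gidxP i

/-- Left multiplication by generator `i`. -/
def nxt (k i : ℕ) : ℕ := fld 8 nxtP (Nat.add (Nat.mul k 3) i)

/-- The action of a vector on auxiliary points. -/
noncomputable def act (v : ℕ) : ℕ → ℕ → ℕ :=
  fun n s => Nat.rec s (fun k ih => force ih fun t =>
    Bool.rec t (im (bas k) t) (Nat.beq (Nat.land (Nat.shiftRight v k) 1) 1)) n

/-- The linear map induced by permutation `k`. -/
noncomputable def mat (k v : ℕ) : ℕ → ℕ :=
  fun n => Nat.rec 0 (fun i ih => force ih fun t =>
    Bool.rec t (Nat.xor (vec (pim k (bas i))) t) (Nat.beq (Nat.land (Nat.shiftRight v i) 1) 1)) n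

/-- Fixed vectors. -/
noncomputable def fixes (k v : ℕ) : Bool := Nat.beq (mat k v 11) v

/-- Counting. -/
noncomputable def cnt (n : ℕ) (p : ℕ → Bool) : ℕ :=
  Nat.rec 0 (fun i ih => force ih fun t => Bool.rec t (Nat.succ t) (p i)) n

/-- Involutions. -/
noncomputable def isInv (k : ℕ) : Bool :=
  !Nat.beq k 0 && allBelow 23 fun j => Nat.beq (pim k (pim k j)) j

/-- Commuting permutations. -/
noncomputable def comm (k m : ℕ) : Bool :=
  allBelow 23 fun j => Nat.beq (pim k (pim m j)) (pim m (pim k j))

theorem words_lt : (allBelow 23 fun j => (pathW.getD j []).all fun g => Nat.blt g 10) = true := by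
  decide +kernel

theorem genW_lt : (genW.all fun l => l.all fun g => Nat.blt g 10) = true := by decide +kernel

theorem frame_lt : (allBelow 23 fun j => Nat.blt (fr j) 31671 &&
    allBelow j fun i => !Nat.beq (fr i) (fr j)) = true := by decide +kernel

theorem path_ok : (allBelow 23 fun j =>
    Nat.beq (scan 10 Fi23x31671.table (pathW.getD j []) 0) (fr j)) = true := by decide +kernel

theorem comm_ok : (allBelow 23 fun i => allBelow 23 fun j =>
    Nat.beq (scan 10 Fi23x31671.table (fWord i) (fr j)) (fr j)) = true := by decide +kernel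

theorem pts_lt : (allBelow 128 fun s => Nat.blt (pt s) 31671) = true := by decide +kernel

theorem img_ok : (allBelow 23 fun j => allBelow 128 fun s => Nat.blt (im j s) 128 &&
    Nat.beq (scan 10 Fi23x31671.table (fWord j) (pt s)) (pt (im j s))) = true := by decide +kernel

theorem pts_sep : (allBelow 128 fun s => allBelow s fun r => !Nat.beq (pt r) (pt s)) = true := by
  decide +kernel

theorem inj_ok : (allBelow 2048 fun v => Nat.beq v 0 ||
    !allBelow 4 fun s => Nat.beq (act v 11 s) s) = true := by decide +kernel

theorem bas_ok : (allBelow 11 fun k => Nat.blt (bas k) 23) = true := by decide +kernel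

theorem vec_ok : (allBelow 23 fun j => Nat.blt (vec j) 2048 &&
    allBelow 4 fun s => Nat.beq (act (vec j) 11 s) (im j s)) = true := by decide +kernel

theorem gen_ok : (allBelow 3 fun i => allBelow 23 fun j =>
    Nat.beq (scan 10 Fi23x31671.table (genW.getD i []) (fr j)) (fr (pim (gid i) j))) = true := by
  decide +kernel

theorem pim_ok : (allBelow 128 fun k => allBelow 23 fun j => Nat.blt (pim k j) 23) = true := by
  decide +kernel

theorem id_ok : (allBelow 23 fun j => Nat.beq (pim 0 j) j) = true := by decide +kernel

theorem nxt_ok : (allBelow 128 fun k => allBelow 3 fun i => Nat.blt (nxt k i) 128 &&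
    allBelow 23 fun j => Nat.beq (pim (nxt k i) j) (pim (gid i) (pim k j))) = true := by
  decide +kernel

theorem parent_ok : (allBelow 128 fun k => Nat.beq k 0 ||
    force (fld 16 parentP k) fun q => Nat.blt (Nat.div q 3) k && Nat.blt (Nat.mod q 3) 3 &&
      Nat.beq (nxt (Nat.div q 3) (Nat.mod q 3)) k) = true := by
  decide +kernel

theorem code_sep : (allBelow 128 fun k => allBelow k fun m =>
    !allBelow 23 fun j => Nat.beq (pim k j) (pim m j)) = true := by
  decide +kernel

theorem fix_bound : (allBelow 128 fun k => !isInv k ||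
    Nat.ble (cnt 2048 (fixes k)) 128) = true := by decide +kernel

theorem fix_ne : (allBelow 128 fun k => !isInv k || allBelow 128 fun m =>
    Nat.beq k m || !(isInv m && comm k m) ||
      !allBelow 2048 fun v => !fixes k v || fixes m v) = true := by decide +kernel

theorem comm_bound : (allBelow 128 fun k => !isInv k || Nat.beq k central ||
    Nat.ble (cnt 128 fun m => isInv m && comm k m) 27) = true := by decide +kernel

end Cfsg.Agent.Lib.Fi23Frame52
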