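import Cfsg.Agent.Lib.Fi23Frame52.Check

/-! An elementary abelian subgroup of `2^11.B`, `B` the Sylow 2-subgroup of M23 on the cocode module, which is
not contained in `2^11` has fewer than `2^11` elements. -/

set_option autoImplicit false

namespace Cfsg.Agent.Lib.Fi23Frame52

open Cfsg.Agent.Lib.CosetEnum

theorem cnt_eq (n : ℕ) (p : ℕ → Bool) :
    cnt n p = ((Finset.range n).filter fun i => p i = true).card := by
  induction n with
  | zero => rfl
  | succ n ih =>
    show (force (cnt n p) fun t => Bool.rec (motive := fun _ => ℕ) t (Nat.succ t) (p n)) = _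
    rw [force_eq, Finset.range_add_one, Finset.filter_insert]
    cases hp : p n
    · simp [ih]
    · rw [if_pos rfl, Finset.card_insert_of_notMem (by simp)]
      simp [ih]

theorem pim_lt {k j : ℕ} (hk : k < 128) (hj : j < 23) : pim k j < 23 := by
  have h := allBelow_iff.1 (allBelow_iff.1 pim_ok k hk) j hj
  simpa using h

theorem vec_lt {j : ℕ} (hj : j < 23) : vec j < 2048 := by
  have h := allBelow_iff.1 vec_ok j hj
  simp only [Bool.and_eq_true, Nat.blt_eq] at h
  exact h.1

theorem bas_lt {k : ℕ} (hk : k < 11) : bas k < 23 := by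
  have h := allBelow_iff.1 bas_ok k hk
  simpa using h

theorem mat_succ (k v n : ℕ) :
    mat k v (n + 1) = if (v >>> n) &&& 1 = 1 then vec (pim k (bas n)) ^^^ mat k v n else mat k v n := by
  show (force (mat k v n) fun t => Bool.rec (motive := fun _ => ℕ) t (Nat.xor (vec (pim k (bas n))) t)
    (Nat.beq (Nat.land (Nat.shiftRight v n) 1) 1)) = _
  rw [force_eq]
  by_cases h : (v >>> n) &&& 1 = 1
  · rw [if_pos h, show Nat.beq (Nat.land (Nat.shiftRight v n) 1) 1 = true from Nat.beq_eq ▸ h]
    rfl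
  · rw [if_neg h, show Nat.beq (Nat.land (Nat.shiftRight v n) 1) 1 = false from
      Bool.eq_false_iff.2 fun hb => h (Nat.beq_eq ▸ hb)]

theorem mat_lt {k : ℕ} (hk : k < 128) (v : ℕ) : ∀ n ≤ 11, mat k v n < 2 ^ 11 := by
  intro n hn
  induction n with
  | zero => show 0 < 2 ^ 11; norm_num
  | succ n ih =>
    rw [mat_succ]
    split_ifs
    · exact Nat.xor_lt_two_pow (vec_lt (pim_lt hk (bas_lt (by omega)))) (ih (by omega))
    · exact ih (by omega)

attribute [local irreducible] cnt mat allBelow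

variable {G : Type} [Group G] [Finite G]

/-- The main counting argument. -/
theorem card_lt_or_le {T0 : Subgroup G} (hT0 : Nat.card T0 = 2 ^ 18)
    (φ : T0 →* Equiv.Perm (Fin 23)) (e : ℕ → G)
    (hker : ∀ x : T0, φ x = 1 → ∃ v < 2048, e v = x)
    (hinj : ∀ v < 2048, ∀ w < 2048, e v = e w → v = w)
    (hran : ∀ x : T0, ∃ k < 128, ∀ j : Fin 23, (φ x j).1 = pim k j.1)
    (hconj : ∀ (x : T0) (k : ℕ), k < 128 → (∀ j : Fin 23, (φ x j).1 = pim k j.1) →
      ∀ v < 2048, (x : G) * e v * (x : G)⁻¹ = e (mat k v 11))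
    (A : Subgroup G) (hA : A ≤ T0) (hcomm : ∀ a ∈ A, ∀ b ∈ A, a * b = b * a)
    (hsq : ∀ a ∈ A, a * a = 1) :
    Nat.card A < 2048 ∨ ∀ a ∈ A, ∃ v < 2048, e v = a := by
  classical
  set ψ : A →* Equiv.Perm (Fin 23) := φ.comp (Subgroup.inclusion hA) with hψ
  by_cases htriv : ∀ a : A, ψ a = 1
  · exact Or.inr fun a ha => hker (Subgroup.inclusion hA ⟨a, ha⟩) (htriv ⟨a, ha⟩)
  left
  choose κ hκlt hκ using fun a : A => hran (Subgroup.inclusion hA a)
  have hκeq : ∀ a b : A, κ a = κ b → ψ a = ψ b := fun a b h => by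
    ext j
    show (φ _ j).1 = (φ _ j).1
    rw [hκ a, hκ b, h]
  have hcA : ∀ a b : A, a * b = b * a := fun a b => Subtype.ext (hcomm _ a.2 _ b.2)
  have hsA : ∀ a : A, a * a = 1 := fun a => Subtype.ext (hsq _ a.2)
  have hinv : ∀ a : A, ψ a ≠ 1 → isInv (κ a) = true := by
    intro a ha
    simp only [isInv, Bool.and_eq_true, Bool.not_eq_true', allBelow_iff, Nat.beq_eq]
    refine ⟨Bool.eq_false_iff.2 fun h => ha ?_, fun j hj => ?_⟩
    · rw [Nat.beq_eq] at h
      ext j
      have hid := Nat.eq_of_beq_eq_true (allBelow_iff.1 id_ok j.1 j.2)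
      show (φ _ j).1 = j.1
      rw [hκ a, h, hid]
    · have h1 : ψ a (ψ a ⟨j, hj⟩) = ⟨j, hj⟩ := by
        rw [← Equiv.Perm.mul_apply, ← map_mul, hsA, map_one, Equiv.Perm.one_apply]
      have h2 := congrArg Fin.val h1
      simp only [hψ, MonoidHom.coe_comp, Function.comp_apply] at h2
      rwa [hκ a, hκ a] at h2
  have hcm : ∀ a b : A, comm (κ a) (κ b) = true := by
    intro a b
    simp only [comm, allBelow_iff, Nat.beq_eq]
    intro j hj
    have h1 : ψ a (ψ b ⟨j, hj⟩) = ψ b (ψ a ⟨j, hj⟩) := by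
      rw [← Equiv.Perm.mul_apply, ← map_mul, hcA, map_mul, Equiv.Perm.mul_apply]
    have h2 := congrArg Fin.val h1
    simp only [hψ, MonoidHom.coe_comp, Function.comp_apply] at h2
    rwa [hκ a, hκ b, hκ b, hκ a] at h2
  -- kernel elements are fixed vectors
  have hkv : ∀ a : ψ.ker, ∃ v < 2048, e v = ((a : A) : G) ∧ ∀ b : A, fixes (κ b) v = true := by
    intro a
    obtain ⟨v, hv, he⟩ := hker (Subgroup.inclusion hA a.1) a.2
    refine ⟨v, hv, he, fun b => ?_⟩
    have h1 := hconj (Subgroup.inclusion hA b) (κ b) (hκlt b) (hκ b) v hv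
    rw [he] at h1
    simp only [Subgroup.coe_inclusion] at h1
    rw [hcomm _ b.2 _ a.1.2, mul_inv_cancel_right] at h1
    rw [fixes, Nat.beq_eq]
    exact hinj _ (mat_lt (hκlt b) v 11 le_rfl) _ hv (h1.symm.trans (by simpa using he.symm))
  choose vv hvlt hve hvfix using hkv
  have hvinj : Function.Injective vv := fun a b h => by
    apply Subtype.ext; apply Subtype.ext
    rw [← hve a, ← hve b, h]
  have hkcard : ∀ (p : ℕ → Bool), (∀ a, p (vv a) = true) →
      Nat.card ψ.ker ≤ ((Finset.range 2048).filter fun i => p i = true).card := by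
    intro p hp
    rw [← Nat.card_eq_finsetCard]
    exact Nat.card_le_card_of_injective (fun a => (⟨vv a, by simp [hvlt a, hp a]⟩ :
      ((Finset.range 2048).filter fun i => p i = true))) fun a b h => hvinj (congrArg Subtype.val h)
  have hmul : Nat.card ψ.ker * Nat.card ψ.range = Nat.card A := by
    rw [← Subgroup.index_ker]; exact Subgroup.card_mul_index _
  obtain ⟨s, hs⟩ := not_forall.1 htriv
  have hfix128 : ∀ a : A, ψ a ≠ 1 → Nat.card ψ.ker ≤ 128 := by
    intro a ha
    refine (hkcard _ fun x => hvfix x a).trans ?_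
    rw [← cnt_eq]
    have h := allBelow_iff.1 fix_bound (κ a) (hκlt a)
    simpa [hinv a ha] using h
  rcases le_or_gt (Nat.card ψ.range) 2 with h2 | h2
  · have := hfix128 s hs
    calc Nat.card A = _ := hmul.symm
      _ ≤ 128 * 2 := Nat.mul_le_mul this h2
      _ < 2048 := by norm_num
  -- two different involutions
  obtain ⟨t, ht, hts⟩ : ∃ t : A, ψ t ≠ 1 ∧ ψ t ≠ ψ s := by
    by_contra hne
    push Not at hne
    have hsub : (ψ.range : Set (Equiv.Perm (Fin 23))) ⊆ {1, ψ s} := by
      rintro _ ⟨x, rfl⟩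
      by_cases hx : ψ x = 1
      · exact Or.inl hx
      · exact Or.inr (hne x hx)
    have h3 := Nat.card_mono (Set.toFinite _) hsub
    rw [Nat.card_coe_set_eq ({1, ψ s} : Set _), Set.ncard_pair (Ne.symm hs)] at h3
    have h4 : Nat.card ψ.range = (ψ.range : Set (Equiv.Perm (Fin 23))).ncard := Nat.card_coe_set_eq _
    first
      | omega
      | (rw [Nat.card_coe_set_eq] at h3; omega)
  have hk127 : Nat.card ψ.ker ≤ 127 := by
    refine (hkcard (fun i => fixes (κ s) i && fixes (κ t) i) fun x => by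
      simp [hvfix x s, hvfix x t]).trans ?_
    have hw : ∃ v < 2048, fixes (κ s) v = true ∧ fixes (κ t) v = false := by
      have h := allBelow_iff.1 fix_ne (κ s) (hκlt s)
      simp only [hinv s hs, Bool.not_true, Bool.false_or] at h
      have h' := allBelow_iff.1 h (κ t) (hκlt t)
      have hne : Nat.beq (κ s) (κ t) = false :=
        Bool.eq_false_iff.2 fun hb => hts (hκeq t s (Nat.eq_of_beq_eq_true hb).symm)
      simp only [hne, hinv t ht, hcm s t, Bool.and_true, Bool.not_true, Bool.false_or,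
        Bool.not_eq_true', ← Bool.not_eq_true, allBelow_iff, not_forall] at h'
      obtain ⟨v, hv, hv'⟩ := h'
      revert hv'
      cases hfs : fixes (κ s) v <;> cases hft : fixes (κ t) v <;> simp
      exact ⟨v, hv, hfs, hft⟩
    obtain ⟨v, hv, hvs, hvt⟩ := hw
    have hlt : ((Finset.range 2048).filter fun i => (fixes (κ s) i && fixes (κ t) i) = true).card <
        ((Finset.range 2048).filter fun i => fixes (κ s) i = true).card := by
      refine Finset.card_lt_card ⟨?_, fun h => ?_⟩
      · intro i hi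
        simp only [Finset.mem_filter, Bool.and_eq_true] at hi ⊢
        exact ⟨hi.1, hi.2.1⟩
      · have := h (by simp [hv, hvs] : v ∈ _)
        simp [hvt] at this
    have h := allBelow_iff.1 fix_bound (κ s) (hκlt s)
    simp only [hinv s hs, Bool.not_true, Bool.false_or, Nat.ble_eq, cnt_eq] at h
    omega
  have hr28 : Nat.card ψ.range ≤ 28 := by
    obtain ⟨u, hu, huc⟩ : ∃ u : A, ψ u ≠ 1 ∧ κ u ≠ central := by
      by_cases hc : κ s = central
      · exact ⟨t, ht, fun h => hts (hκeq t s (h.trans hc.symm))⟩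
      · exact ⟨s, hs, hc⟩
    have h := allBelow_iff.1 comm_bound (κ u) (hκlt u)
    simp only [hinv u hu, Bool.not_true, Bool.false_or, Bool.or_eq_true, Nat.beq_eq, huc, false_or,
      Nat.ble_eq, cnt_eq] at h
    choose pre hpre using fun b : ψ.range => b.2
    set F := insert 0 ((Finset.range 128).filter fun m => (isInv m && comm (κ u) m) = true)
    have hF : F.card ≤ 28 := (Finset.card_insert_le _ _).trans (by omega)
    refine le_trans (Nat.card_le_card_of_injective
      (fun b : ψ.range => (⟨if b.1 = 1 then 0 else κ (pre b), ?_⟩ : F)) ?_)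
      (by rw [Nat.card_eq_finsetCard]; exact hF)
    · split_ifs with hb
      · exact Finset.mem_insert_self _ _
      · refine Finset.mem_insert_of_mem ?_
        simp only [Finset.mem_filter, Finset.mem_range, Bool.and_eq_true]
        exact ⟨hκlt _, hinv _ (by rw [hpre]; exact hb), hcm _ _⟩
    · intro b c hbc
      have hne0 : ∀ b : ψ.range, b.1 ≠ 1 → κ (pre b) ≠ 0 := fun b hb h0 => by
        have := hinv (pre b) (by rw [hpre]; exact hb)
        simp [isInv, h0] at this
      replace hbc := congrArg Subtype.val hbc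
      simp only at hbc
      apply Subtype.ext
      by_cases hb : b.1 = 1 <;> by_cases hc : c.1 = 1
      · rw [hb, hc]
      · rw [if_pos hb, if_neg hc] at hbc; exact absurd hbc.symm (hne0 c hc)
      · rw [if_neg hb, if_pos hc] at hbc; exact absurd hbc (hne0 b hb)
      · rw [if_neg hb, if_neg hc] at hbc
        rw [← hpre b, ← hpre c]; exact hκeq _ _ hbc
  have hdvd : Nat.card ψ.range ∣ 2 ^ 18 := by
    rw [← hT0]
    exact ((Dvd.intro_left _ hmul).trans (Subgroup.card_dvd_of_le hA))
  obtain ⟨i, -, hi⟩ := (Nat.dvd_prime_pow Nat.prime_two).1 hdvd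
  have hi16 : Nat.card ψ.range ≤ 16 := by
    rw [hi] at hr28 ⊢
    rcases Nat.lt_or_ge i 5 with h5 | h5
    · exact (Nat.pow_le_pow_right (by norm_num) (by omega : i ≤ 4)).trans (by norm_num)
    · have := Nat.pow_le_pow_right (show 0 < 2 by norm_num) h5; omega
  calc Nat.card A = _ := hmul.symm
    _ ≤ 127 * 16 := Nat.mul_le_mul hk127 hi16
    _ < 2048 := by norm_num

end Cfsg.Agent.Lib.Fi23Frame52
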