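import Cfsg.Agent.Lib.Fi23Frame52.Count
import Cfsg.Agent.Lib.CosetEnum.Fi23Orbit.Facts

/-! The elementary abelian subgroup `2^11` of a Sylow 2-subgroup of Fi23: generated by a frame of 23 commuting
transpositions, it is the unique elementary abelian subgroup of order at least `2^11`. -/

set_option autoImplicit false

namespace Cfsg.Agent.Lib.Fi23Frame52

open Cfsg.Agent.Lib.CosetEnum

/-- The group. -/
abbrev G : Type := Fi23Orbit.G

/-- The element of a word, acting by scanning the word. -/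
noncomputable def el (l : List ℕ) : G := ((l.map (Fi23x31671.letters.phi _)).prod)⁻¹

/-- The action. -/
def IsAct (ρ : G →* Equiv.Perm (Fin 31671)) : Prop :=
  (∀ g < Fi23x31671.letters.K, ∀ i : Fin 31671,
      ((ρ (Fi23x31671.letters.phi _ g))⁻¹ i).1 =
        get32 Fi23x31671.table (i.1 * Fi23x31671.letters.K + g)) ∧
    Function.Injective ρ

variable {ρ : G →* Equiv.Perm (Fin 31671)}

theorem IsAct.el_apply (h : IsAct ρ) (l : List ℕ) (hl : ∀ g ∈ l, g < 10) (i : Fin 31671) :
    (ρ (el l) i).1 = scan 10 Fi23x31671.table l i.1 := by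
  rw [el, map_inv]
  exact rho_scan Fi23x31671.letters _ ρ h.1 l hl i

theorem IsAct.phi_sq (h : IsAct ρ) {g : ℕ} (hg : g < 10) :
    Fi23x31671.letters.phi _ g * Fi23x31671.letters.phi _ g = (1 : G) := by
  have hK : Fi23x31671.letters.K = 10 := rfl
  have hIV : invL Fi23x31671.letters.IV g = g := by
    revert hg g; decide +kernel
  apply h.2
  rw [map_mul, map_one, ← inv_inj, inv_one, mul_inv_rev]
  ext i
  have h1 := h.1 g hg i
  have h2 := h.1 g hg ((ρ (Fi23x31671.letters.phi _ g))⁻¹ i)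
  have hp := allBelow_iff.1 Fi23x31671.perm_ok i.1 i.2
  simp only [permAt, force_eq, allBelow_iff, Bool.and_eq_true, Nat.beq_eq] at hp
  have hp' := (hp g hg).2
  simp only [hIV, Nat.mul_eq, Nat.add_eq] at hp'
  rw [Equiv.Perm.mul_apply, h2, h1, hp', Equiv.Perm.one_apply]

theorem IsAct.el_reverse (h : IsAct ρ) (l : List ℕ) (hl : ∀ g ∈ l, g < 10) :
    el l.reverse = (el l)⁻¹ := by
  induction l with
  | nil => simp [el]
  | cons g l ih =>
    have h1 := h.phi_sq (hl g List.mem_cons_self)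
    have h2 := ih fun x hx => hl x (List.mem_cons_of_mem _ hx)
    simp only [el, List.reverse_cons, List.map_append, List.prod_append, List.map_cons, List.map_nil,
      List.prod_cons, List.prod_nil, mul_one, mul_inv_rev, inv_inv] at h2 ⊢
    rw [h2, inv_eq_of_mul_eq_one_right h1]

theorem el_append (l l' : List ℕ) : el (l ++ l') = el l' * el l := by
  simp [el]

theorem path_lt {j : ℕ} (hj : j < 23) : ∀ g ∈ pathW.getD j [], g < 10 := by
  intro g hg
  have h := allBelow_iff.1 words_lt j hj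
  simpa using List.all_eq_true.1 h g hg

theorem zWord_lt10 : ∀ g ∈ Fi23Orbit.zWord, g < 10 := Fi23Orbit.zWord_lt

theorem fWord_lt {j : ℕ} (hj : j < 23) : ∀ g ∈ fWord j, g < 10 := by
  intro g hg
  simp only [fWord, List.mem_append, List.mem_reverse] at hg
  rcases hg with (hg | hg) | hg
  exacts [path_lt hj g hg, zWord_lt10 g hg, path_lt hj g hg]

theorem genWord_lt {i : ℕ} : ∀ g ∈ genW.getD i [], g < 10 := by
  intro g hg
  rcases lt_or_ge i genW.length with hi | hi
  · rw [List.getD_eq_getElem _ _ hi] at hg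
    simpa using List.all_eq_true.1 (List.all_eq_true.1 genW_lt _ (List.getElem_mem hi)) g hg
  · rw [List.getD_eq_default _ _ hi] at hg
    exact absurd hg List.not_mem_nil

theorem fr_lt {j : ℕ} (hj : j < 23) : fr j < 31671 := by
  have h := allBelow_iff.1 frame_lt j hj
  simp only [Bool.and_eq_true, Nat.blt_eq] at h
  exact h.1

/-- A frame point. -/
noncomputable def P (j : Fin 23) : Fin 31671 := ⟨fr j.1, fr_lt j.2⟩

theorem P_injective : Function.Injective P := by
  intro i j hij
  have hij' : fr i.1 = fr j.1 := congrArg Fin.val hij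
  rcases lt_trichotomy i.1 j.1 with h | h | h
  · have := allBelow_iff.1 frame_lt j.1 j.2
    simp only [Bool.and_eq_true, allBelow_iff] at this
    simpa [hij'] using this.2 i.1 h
  · exact Fin.ext h
  · have := allBelow_iff.1 frame_lt i.1 i.2
    simp only [Bool.and_eq_true, allBelow_iff] at this
    simpa [hij'] using this.2 j.1 h

/-- A frame transposition. -/
noncomputable def F (j : Fin 23) : G := el (fWord j.1)

/-- The conjugating element. -/
noncomputable def X (j : Fin 23) : G := el (pathW.getD j.1 [])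

theorem IsAct.X_apply (h : IsAct ρ) (j : Fin 23) : ρ (X j) ⟨0, by omega⟩ = P j := by
  apply Fin.ext
  rw [X, h.el_apply _ (path_lt j.2)]
  exact Nat.eq_of_beq_eq_true (allBelow_iff.1 path_ok j.1 j.2)

/-- The central involution of the point stabiliser and its property. -/
theorem z_facts : ∃ ρ : G →* Equiv.Perm (Fin 31671), IsAct ρ ∧
    el Fi23Orbit.zWord * el Fi23Orbit.zWord = 1 ∧
    (∀ x : G, ρ x ⟨0, by omega⟩ = ⟨0, by omega⟩ →
      x * el Fi23Orbit.zWord = el Fi23Orbit.zWord * x) ∧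
    Nat.card G = 4089470473293004800 := by
  obtain ⟨ρ, ρJ, hρ, hst, -, hinj, -, hJge, hzJ, hz1, hG, hJ⟩ := Fi23Orbit.main
  haveI : Finite G := Nat.finite_of_card_ne_zero (by rw [hG]; omega)
  set z := Fi23Orbit.z
  have hmul : Nat.card ρJ.ker * Nat.card ρJ.range = Nat.card Fi23Orbit.J := by
    rw [← Subgroup.index_ker]; exact Subgroup.card_mul_index _
  have hk2 : Nat.card ρJ.ker ≤ 2 := by
    rw [hJ] at hmul
    nlinarith
  have hker : ∀ y, ρJ y = 1 → y = 1 ∨ y = z := by
    intro y hy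
    by_contra hne
    push Not at hne
    have hsub : ({1, z, y} : Set Fi23Orbit.J) ⊆ (ρJ.ker : Set Fi23Orbit.J) := by
      rintro a (rfl | rfl | rfl)
      exacts [map_one ρJ, hzJ, hy]
    have h3 := Set.ncard_le_ncard hsub (Set.toFinite _)
    rw [Set.ncard_eq_three.2 ⟨1, z, y, Ne.symm hz1, Ne.symm hne.1, Ne.symm hne.2, rfl⟩] at h3
    have h4 : Nat.card ρJ.ker = (ρJ.ker : Set Fi23Orbit.J).ncard := Nat.card_coe_set_eq _
    omega
  have hzz : z * z = 1 := by
    rcases hker (z * z) (by rw [map_mul, hzJ, one_mul]) with h | h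
    · exact h
    · exact absurd (mul_eq_left.1 h) hz1
  have hel : el Fi23Orbit.zWord = (z : G) := by
    have h1 := congrArg Subtype.val hzz
    rw [Subgroup.coe_mul, Subgroup.coe_one] at h1
    rw [show el Fi23Orbit.zWord = ((z : G))⁻¹ from rfl]
    exact inv_eq_of_mul_eq_one_right h1
  refine ⟨ρ, ⟨hρ, hinj⟩, ?_, fun x hx => ?_, hG⟩
  · rw [hel]
    simpa using congrArg Subtype.val hzz
  · rw [hel]
    set y : Fi23Orbit.J := ⟨x, (hst x).2 hx⟩
    rcases hker (y * z * y⁻¹) (by simp [hzJ]) with h | h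
    · exact absurd (conj_eq_one_iff.1 h) hz1
    · have := congrArg Subtype.val (mul_inv_eq_iff_eq_mul.1 h)
      simpa [y] using this

section
variable (h : IsAct ρ) (hzz : el Fi23Orbit.zWord * el Fi23Orbit.zWord = 1)
  (hzc : ∀ x : G, ρ x ⟨0, by omega⟩ = ⟨0, by omega⟩ →
    x * el Fi23Orbit.zWord = el Fi23Orbit.zWord * x)
include h

theorem F_eq (j : Fin 23) : F j = X j * el Fi23Orbit.zWord * (X j)⁻¹ := by
  rw [F, fWord, el_append, el_append, h.el_reverse _ (path_lt j.2), X, mul_assoc]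

include hzc

theorem F_conj {g : G} {i j : Fin 23} (hg : ρ g (P j) = P i) : g * F j * g⁻¹ = F i := by
  have hy : ρ ((X i)⁻¹ * g * X j) ⟨0, by omega⟩ = ⟨0, by omega⟩ := by
    rw [map_mul, map_mul, Equiv.Perm.mul_apply, Equiv.Perm.mul_apply, h.X_apply, hg, map_inv,
      Equiv.Perm.inv_eq_iff_eq, h.X_apply]
  have hc := hzc _ hy
  rw [F_eq h, F_eq h]
  calc g * (X j * el Fi23Orbit.zWord * (X j)⁻¹) * g⁻¹
      = X i * (((X i)⁻¹ * g * X j) * el Fi23Orbit.zWord) * ((X j)⁻¹ * g⁻¹) := by group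
    _ = _ := by rw [hc]; group

omit hzc in
theorem F_fix (i j : Fin 23) : ρ (F i) (P j) = P j := by
  apply Fin.ext
  rw [F, h.el_apply _ (fWord_lt i.2)]
  exact Nat.eq_of_beq_eq_true (allBelow_iff.1 (allBelow_iff.1 comm_ok i.1 i.2) j.1 j.2)

theorem F_comm (i j : Fin 23) : F i * F j = F j * F i :=
  mul_inv_eq_iff_eq_mul.1 (F_conj h hzc (F_fix h i j))

/-- The elementary abelian group. -/
theorem E_comm {a b : G} (ha : a ∈ Subgroup.closure (Set.range F))
    (hb : b ∈ Subgroup.closure (Set.range F)) : a * b = b * a := by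
  have h1 : Subgroup.closure (Set.range F) ≤ Subgroup.centralizer (Set.range F) := by
    rw [Subgroup.closure_le]
    rintro _ ⟨i, rfl⟩
    rw [SetLike.mem_coe, Subgroup.mem_centralizer_iff]
    rintro _ ⟨j, rfl⟩
    exact F_comm h hzc j i
  have h2 : Subgroup.closure (Set.range F) ≤
      Subgroup.centralizer (Subgroup.closure (Set.range F) : Set G) := by
    rw [Subgroup.closure_le]
    rintro _ ⟨i, rfl⟩
    rw [SetLike.mem_coe, Subgroup.mem_centralizer_iff]
    intro y hy
    exact (Subgroup.mem_centralizer_iff.1 (h1 hy) (F i) ⟨i, rfl⟩).symm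
  exact (Subgroup.mem_centralizer_iff.1 (h2 hb) a ha)

include hzz

omit hzc in
theorem F_sq (j : Fin 23) : F j * F j = 1 := by
  rw [F_eq h]
  calc X j * el Fi23Orbit.zWord * (X j)⁻¹ * (X j * el Fi23Orbit.zWord * (X j)⁻¹)
      = X j * (el Fi23Orbit.zWord * el Fi23Orbit.zWord) * (X j)⁻¹ := by group
    _ = 1 := by rw [hzz]; group

theorem E_sq {a : G} (ha : a ∈ Subgroup.closure (Set.range F)) : a * a = 1 := by
  induction ha using Subgroup.closure_induction with
  | mem x hx => obtain ⟨j, rfl⟩ := hx; exact F_sq h hzz j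
  | one => exact one_mul 1
  | mul x y hx hy hx' hy' =>
    have hc := E_comm h hzc hy hx
    calc x * y * (x * y) = x * (y * x) * y := by group
      _ = (x * x) * (y * y) := by rw [hc]; group
      _ = 1 := by rw [hx', hy', one_mul]
  | inv x _ hx' => rw [← mul_inv_rev, hx', inv_one]

end

/-- Partial products of basis transpositions. -/
noncomputable def ev (v : ℕ) : ℕ → G
  | 0 => 1
  | n + 1 => if v.testBit n then F ⟨bas n % 23, Nat.mod_lt _ (by omega)⟩ * ev v n else ev v n

/-- The element with given coordinates. -/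
noncomputable def e (v : ℕ) : G := ev v 11

theorem bit_iff (v n : ℕ) : (v >>> n) &&& 1 = 1 ↔ v.testBit n = true := by
  rw [Nat.and_one_is_mod, Nat.shiftRight_eq_div_pow, Nat.testBit_eq_decide_div_mod_eq, decide_eq_true_iff]

theorem ev_mem (v : ℕ) : ∀ n, ev v n ∈ Subgroup.closure (Set.range F)
  | 0 => Subgroup.one_mem _
  | n + 1 => by
    rw [ev]
    split_ifs
    · exact Subgroup.mul_mem _ (Subgroup.subset_closure ⟨_, rfl⟩) (ev_mem v n)
    · exact ev_mem v n

theorem ev_zero : ∀ n, ev 0 n = 1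
  | 0 => rfl
  | n + 1 => by simp [ev, ev_zero n]

theorem act_succ (v n s : ℕ) :
    act v (n + 1) s = if v.testBit n then im (bas n) (act v n s) else act v n s := by
  show (force (act v n s) fun t => Bool.rec (motive := fun _ => ℕ) t (im (bas n) t)
    (Nat.beq (Nat.land (Nat.shiftRight v n) 1) 1)) = _
  rw [force_eq]
  by_cases hb : v.testBit n = true
  · rw [if_pos hb, show Nat.beq (Nat.land (Nat.shiftRight v n) 1) 1 = true from
      Nat.beq_eq ▸ (bit_iff v n).2 hb]
  · rw [if_neg hb, show Nat.beq (Nat.land (Nat.shiftRight v n) 1) 1 = false from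
      Bool.eq_false_iff.2 fun hx => hb ((bit_iff v n).1 (Nat.beq_eq ▸ hx))]

theorem pt_lt {s : ℕ} (hs : s < 128) : pt s < 31671 := by
  simpa using allBelow_iff.1 pts_lt s hs

attribute [local irreducible] scan allBelow act mat cnt

theorem IsAct.F_pt (h : IsAct ρ) (j : Fin 23) {s : ℕ} (hs : s < 128) :
    im j.1 s < 128 ∧ (ρ (F j) ⟨pt s, pt_lt hs⟩).1 = pt (im j.1 s) := by
  have h1 := allBelow_iff.1 (allBelow_iff.1 img_ok j.1 j.2) s hs
  simp only [Bool.and_eq_true, Nat.blt_eq, Nat.beq_eq] at h1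
  refine ⟨h1.1, ?_⟩
  rw [F, h.el_apply _ (fWord_lt j.2)]
  exact h1.2

theorem IsAct.ev_pt (h : IsAct ρ) (v : ℕ) : ∀ n ≤ 11, ∀ s, ∀ hs : s < 128,
    act v n s < 128 ∧ (ρ (ev v n) ⟨pt s, pt_lt hs⟩).1 = pt (act v n s) := by
  intro n hn
  induction n with
  | zero =>
    intro s hs
    have : act v 0 s = s := by unfold act; rfl
    rw [this]
    exact ⟨hs, by rw [ev, map_one, Equiv.Perm.one_apply]⟩
  | succ n ih =>
    intro s hs
    obtain ⟨h1, h2⟩ := ih (by omega) s hs
    rw [act_succ, ev]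
    by_cases hb : v.testBit n = true
    · rw [if_pos hb, if_pos hb]
      have hb23 : bas n % 23 = bas n := Nat.mod_eq_of_lt (bas_lt (by omega))
      obtain ⟨h3, h4⟩ := h.F_pt ⟨bas n % 23, Nat.mod_lt _ (by omega)⟩ h1
      simp only [hb23] at h3 h4 ⊢
      refine ⟨h3, ?_⟩
      rw [map_mul, Equiv.Perm.mul_apply,
        show ρ (ev v n) ⟨pt s, pt_lt hs⟩ = ⟨pt (act v n s), pt_lt h1⟩ from Fin.ext h2, h4]
    · rw [if_neg hb, if_neg hb]
      exact ⟨h1, h2⟩

theorem pt_inj {r s : ℕ} (hr : r < 128) (hs : s < 128) (h : pt r = pt s) : r = s := by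
  rcases lt_trichotomy r s with hh | hh | hh
  · have := allBelow_iff.1 (allBelow_iff.1 pts_sep s hs) r hh
    simp [h] at this
  · exact hh
  · have := allBelow_iff.1 (allBelow_iff.1 pts_sep r hr) s hh
    simp [h] at this

theorem IsAct.eq_zero_of_fix (h : IsAct ρ) {v : ℕ} (hv : v < 2048)
    (hfix : ∀ s, ∀ hs : s < 4, ρ (e v) ⟨pt s, pt_lt (by omega)⟩ = ⟨pt s, pt_lt (by omega)⟩) :
    v = 0 := by
  by_contra hne
  have h1 := allBelow_iff.1 inj_ok v hv
  have hb : Nat.beq v 0 = false := Bool.eq_false_iff.2 fun hb => hne (Nat.eq_of_beq_eq_true hb)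
  simp only [hb, Bool.false_or, Bool.not_eq_true', ← Bool.not_eq_true] at h1
  apply h1
  rw [allBelow_iff]
  intro s hs
  obtain ⟨h2, h3⟩ := h.ev_pt v 11 le_rfl s (by omega)
  have h4 := congrArg Fin.val (hfix s hs)
  rw [e] at h4
  rw [Nat.beq_eq]
  exact pt_inj h2 (by omega) (h3.symm.trans h4)

section
variable (h : IsAct ρ) (hzz : el Fi23Orbit.zWord * el Fi23Orbit.zWord = 1)
  (hzc : ∀ x : G, ρ x ⟨0, by omega⟩ = ⟨0, by omega⟩ →
    x * el Fi23Orbit.zWord = el Fi23Orbit.zWord * x)
include h hzz hzc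

theorem ev_xor (v w : ℕ) : ∀ n, ev (v ^^^ w) n = ev v n * ev w n := by
  intro n
  induction n with
  | zero => simp [ev]
  | succ n ih =>
    simp only [ev, Nat.testBit_xor, ih]
    set f := F ⟨bas n % 23, Nat.mod_lt _ (by omega)⟩
    have hf : f ∈ Subgroup.closure (Set.range F) := Subgroup.subset_closure ⟨_, rfl⟩
    have hc := E_comm h hzc hf (ev_mem v n)
    have hff := E_sq h hzz hzc hf
    cases v.testBit n <;> cases w.testBit n <;>
      simp only [Bool.xor_self, Bool.bne_false, Bool.bne_true, Bool.not_true, Bool.not_false,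
        Bool.false_bne, Bool.true_bne, if_true, if_false, Bool.false_eq_true, bne_self_eq_false]
    · rw [← mul_assoc, ← mul_assoc, ← hc]
    · rw [mul_assoc]
    · rw [mul_assoc f, ← mul_assoc (ev v n), ← hc, ← mul_assoc, ← mul_assoc, hff, one_mul]

theorem e_xor (v w : ℕ) : e (v ^^^ w) = e v * e w := ev_xor h hzz hzc v w 11

theorem e_injective {v w : ℕ} (hv : v < 2048) (hw : w < 2048) (he : e v = e w) : v = w := by
  have h1 : v ^^^ w < 2 ^ 11 := Nat.xor_lt_two_pow hv hw
  have h2 : e (v ^^^ w) = 1 := by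
    rw [e_xor h hzz hzc, he]; exact E_sq h hzz hzc (ev_mem w 11)
  have h3 := h.eq_zero_of_fix h1 fun s hs => by rw [h2, map_one, Equiv.Perm.one_apply]
  exact Nat.xor_eq_zero_iff.1 h3

theorem E_isPGroup : IsPGroup 2 (Subgroup.closure (Set.range F)) := fun a =>
  ⟨1, Subtype.ext (by rw [pow_one, Subgroup.coe_pow, pow_two]; exact E_sq h hzz hzc a.2)⟩

/-- The Sylow 2-subgroup. -/
theorem exists_T0 (hG : Nat.card G = 4089470473293004800) :
    ∃ (T0 : Sylow 2 G) (E : Subgroup G), E ≤ T0 ∧ Nat.card E = 2 ^ 11 ∧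
      (∀ a ∈ E, ∀ b ∈ E, a * b = b * a) ∧ (∀ a ∈ E, a * a = 1) ∧
      (∀ x ∈ (T0 : Subgroup G), ∀ a ∈ E, x * a * x⁻¹ ∈ E) ∧
      ∀ A : Subgroup G, A ≤ T0 → (∀ a ∈ A, ∀ b ∈ A, a * b = b * a) → (∀ a ∈ A, a * a = 1) →
        Nat.card A < 2 ^ 11 ∨ A ≤ E := by
  classical
  haveI : Finite G := Nat.finite_of_card_ne_zero (by rw [hG]; omega)
  haveI : Fact (Nat.Prime 2) := ⟨Nat.prime_two⟩
  set E := Subgroup.closure (Set.range F) with hE
  let gi : Fin 3 → G := fun i => el (genW.getD i.1 [])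
  set Pg := Subgroup.closure (Set.range F ∪ Set.range gi) with hPg
  have hEP : E ≤ Pg := Subgroup.closure_mono Set.subset_union_left
  have hgi : ∀ (i : Fin 3) (j : Fin 23), ∃ hlt : pim (gid i.1) j.1 < 23,
      ρ (gi i) (P j) = P ⟨pim (gid i.1) j.1, hlt⟩ := by
    intro i j
    have h1 := allBelow_iff.1 (allBelow_iff.1 gen_ok i.1 i.2) j.1 j.2
    rw [Nat.beq_eq] at h1
    have h3 := allBelow_iff.1 (allBelow_iff.1 nxt_ok 0 (by omega)) i.1 i.2
    simp only [Bool.and_eq_true, allBelow_iff, Nat.beq_eq, Nat.blt_eq] at h3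
    have h4 := h3.2 j.1 j.2
    rw [Nat.eq_of_beq_eq_true (allBelow_iff.1 id_ok j.1 j.2)] at h4
    refine ⟨h4 ▸ pim_lt h3.1 j.2, Fin.ext ?_⟩
    show (ρ (el _) (P j)).1 = _
    rw [h.el_apply _ genWord_lt]
    exact h1
  -- the induced permutation
  have hperm : ∀ x ∈ Pg, ∃ k, ∃ hk : k < 128, ∀ j : Fin 23,
      ρ x (P j) = P ⟨pim k j.1, pim_lt hk j.2⟩ := by
    intro x hx
    rw [hPg, ← Subgroup.mem_toSubmonoid, Subgroup.closure_toSubmonoid_of_finite] at hx
    induction hx using Submonoid.closure_induction_left with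
    | one =>
      refine ⟨0, by omega, fun j => ?_⟩
      rw [map_one, Equiv.Perm.one_apply]
      refine congrArg P ?_
      exact Fin.ext (Nat.eq_of_beq_eq_true (allBelow_iff.1 id_ok j.1 j.2)).symm
    | mul_left g hg y _ ih =>
      obtain ⟨k, hk, hky⟩ := ih
      rcases hg with ⟨i, rfl⟩ | ⟨i, rfl⟩
      · exact ⟨k, hk, fun j => by rw [map_mul, Equiv.Perm.mul_apply, hky, F_fix h]⟩
      · have h3 := allBelow_iff.1 (allBelow_iff.1 nxt_ok k hk) i.1 i.2
        simp only [Bool.and_eq_true, allBelow_iff, Nat.beq_eq, Nat.blt_eq] at h3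
        refine ⟨nxt k i.1, h3.1, fun j => ?_⟩
        obtain ⟨hlt, hg⟩ := hgi i ⟨pim k j.1, pim_lt hk j.2⟩
        rw [map_mul, Equiv.Perm.mul_apply, hky, hg]
        refine congrArg P ?_
        exact Fin.ext (h3.2 j.1 j.2).symm
  choose κ hκlt hκ using fun x : Pg => hperm x.1 x.2
  let φf : Pg → Fin 23 → Fin 23 := fun x j => ⟨pim (κ x) j.1, pim_lt (hκlt x) j.2⟩
  have hφf : ∀ x j, P (φf x j) = ρ x.1 (P j) := fun x j => (hκ x j).symm
  have hone : ∀ j, φf 1 j = j := fun j => P_injective (by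
    rw [hφf, Subgroup.coe_one, map_one, Equiv.Perm.one_apply])
  have hmulf : ∀ x y j, φf (x * y) j = φf x (φf y j) := fun x y j => P_injective (by
    rw [hφf, hφf, hφf, Subgroup.coe_mul, map_mul, Equiv.Perm.mul_apply])
  let φ : Pg →* Equiv.Perm (Fin 23) :=
    { toFun := fun x => ⟨φf x, φf x⁻¹,
        fun j => by rw [← hmulf, inv_mul_cancel, hone], fun j => by rw [← hmulf, mul_inv_cancel, hone]⟩
      map_one' := Equiv.ext hone
      map_mul' := fun x y => Equiv.ext (hmulf x y) }
  have hFnorm : ∀ (x : Pg) (j : Fin 23), (x : G) * F j * (x : G)⁻¹ = F (φ x j) := fun x j =>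
    F_conj h hzc (hφf x j).symm
  have hEnorm : ∀ x ∈ Pg, ∀ a ∈ E, x * a * x⁻¹ ∈ E := by
    intro x hx a ha
    induction ha using Subgroup.closure_induction with
    | mem y hy =>
      obtain ⟨j, rfl⟩ := hy
      rw [hFnorm ⟨x, hx⟩ j]
      exact Subgroup.subset_closure ⟨_, rfl⟩
    | one => simp
    | mul y y' _ _ h1 h2 =>
      have := E.mul_mem h1 h2
      rwa [show x * y * x⁻¹ * (x * y' * x⁻¹) = x * (y * y') * x⁻¹ by group] at this
    | inv y _ h1 =>
      have := E.inv_mem h1
      rwa [show (x * y * x⁻¹)⁻¹ = x * y⁻¹ * x⁻¹ by group] at this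
  set E' := E.subgroupOf Pg
  haveI hE'n : E'.Normal := ⟨fun a ha x => by
    rw [Subgroup.mem_subgroupOf] at ha ⊢
    simpa using hEnorm x x.2 _ ha⟩
  have hE'k : E' ≤ φ.ker := by
    intro a ha
    rw [Subgroup.mem_subgroupOf] at ha
    refine Equiv.ext fun j => P_injective ?_
    show P (φf a j) = P j
    rw [hφf]
    have key : ∀ b ∈ E, ρ b (P j) = P j := by
      intro b hb
      induction hb using Subgroup.closure_induction with
      | mem y hy => obtain ⟨i, rfl⟩ := hy; exact F_fix h i j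
      | one => rw [map_one, Equiv.Perm.one_apply]
      | mul y y' _ _ h1 h2 => rw [map_mul, Equiv.Perm.mul_apply, h2, h1]
      | inv y _ h1 => rw [map_inv, Equiv.Perm.inv_eq_iff_eq, h1]
    exact key _ ha
  -- the image has order at least 128
  have hgPg : ∀ i, gi i ∈ Pg := fun i => Subgroup.subset_closure (Or.inr ⟨i, rfl⟩)
  have hreach : ∀ k : ℕ, k < 128 → ∃ x : Pg, ∀ j : Fin 23, (φ x j).1 = pim k j.1 := by
    intro k
    induction k using Nat.strong_induction_on with
    | _ k ih =>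
      intro hk
      rcases Nat.eq_zero_or_pos k with rfl | hk0
      · refine ⟨1, fun j => ?_⟩
        rw [map_one, Equiv.Perm.one_apply]
        exact (Nat.eq_of_beq_eq_true (allBelow_iff.1 id_ok j.1 j.2)).symm
      · have h1 := allBelow_iff.1 parent_ok k hk
        have hb : Nat.beq k 0 = false := Bool.eq_false_iff.2 fun hb => hk0.ne' (Nat.eq_of_beq_eq_true hb)
        simp only [hb, Bool.false_or, force_eq, Bool.and_eq_true, Nat.blt_eq, Nat.beq_eq] at h1
        obtain ⟨⟨hp, hi⟩, hn⟩ := h1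
        obtain ⟨y, hy⟩ := ih _ hp (by omega)
        refine ⟨⟨gi ⟨_, hi⟩, hgPg _⟩ * y, fun j => ?_⟩
        have h3 := allBelow_iff.1 (allBelow_iff.1 nxt_ok _ (show Nat.div (fld 16 parentP k) 3 < 128 from lt_trans hp hk)) _ hi
        simp only [Bool.and_eq_true, allBelow_iff, Nat.beq_eq, Nat.blt_eq] at h3
        have h4 := h3.2 j.1 j.2
        rw [hn] at h4
        rw [map_mul, Equiv.Perm.mul_apply, h4]
        obtain ⟨hlt, hg⟩ := hgi ⟨_, hi⟩ (φ y j)
        have h5 : φ ⟨gi ⟨_, hi⟩, hgPg _⟩ (φ y j) = ⟨_, hlt⟩ := P_injective ((hφf _ _).trans hg)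
        rw [h5]
        show pim _ (φ y j).1 = _
        rw [hy]
  have hrange : Nat.card φ.range = 128 := by
    apply le_antisymm
    · calc Nat.card φ.range ≤ Nat.card (Fin 128) := by
            choose pre hpre using fun b : φ.range => b.2
            refine Nat.card_le_card_of_injective (fun b => (⟨κ (pre b), hκlt _⟩ : Fin 128)) fun b c hbc => ?_
            apply Subtype.ext
            rw [← hpre b, ← hpre c]
            refine Equiv.ext fun j => Fin.ext ?_
            show pim (κ (pre b)) j.1 = pim (κ (pre c)) j.1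
            have hk' : κ (pre b) = κ (pre c) := congrArg Fin.val hbc
            rw [hk']
        _ = 128 := Nat.card_fin 128
    · choose x hx using fun k : Fin 128 => hreach k.1 k.2
      calc 128 = Nat.card (Fin 128) := (Nat.card_fin 128).symm
        _ ≤ _ := Nat.card_le_card_of_injective (fun k => (⟨φ (x k), ⟨_, rfl⟩⟩ : φ.range)) fun k m hkm => by
          have hh : ∀ j < 23, pim k.1 j = pim m.1 j := fun j hj => by
            have hkm' : φ (x k) = φ (x m) := congrArg Subtype.val hkm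
            rw [← hx k ⟨j, hj⟩, ← hx m ⟨j, hj⟩, hkm']
          rcases lt_trichotomy k.1 m.1 with hlt | heq | hlt
          · have := allBelow_iff.1 (allBelow_iff.1 code_sep m.1 m.2) k.1 hlt
            simp only [Bool.not_eq_true', ← Bool.not_eq_true, allBelow_iff, Nat.beq_eq] at this
            exact absurd (fun j hj => (hh j hj).symm) this
          · exact Fin.ext heq
          · have := allBelow_iff.1 (allBelow_iff.1 code_sep k.1 k.2) m.1 hlt
            simp only [Bool.not_eq_true', ← Bool.not_eq_true, allBelow_iff, Nat.beq_eq] at this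
            exact absurd hh this
  have hPcard : Nat.card φ.ker * 128 = Nat.card Pg := by
    rw [← hrange, ← Subgroup.index_ker]; exact Subgroup.card_mul_index _
  -- numerics
  obtain ⟨m, hm⟩ := IsPGroup.iff_card.1 (E_isPGroup h hzz hzc)
  have hEge : 2 ^ 11 ≤ Nat.card E := by
    calc 2 ^ 11 = Nat.card (Fin 2048) := by simp
      _ ≤ _ := Nat.card_le_card_of_injective (fun v : Fin 2048 => (⟨e v.1, ev_mem v.1 11⟩ : E))
          fun v w hvw => Fin.ext (e_injective h hzz hzc v.2 w.2 (congrArg Subtype.val hvw))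
  have hE'card : Nat.card E' = Nat.card E := Nat.card_congr (Subgroup.subgroupOfEquivOfLe hEP).toEquiv
  have hpow : ∀ i, 2 ^ i ∣ Nat.card Pg → i ≤ 18 := by
    intro i hi
    by_contra hlt
    have h19 : 2 ^ 19 ∣ Nat.card G :=
      (pow_dvd_pow 2 (by omega : 19 ≤ i)).trans (hi.trans (Subgroup.card_subgroup_dvd_card _))
    rw [hG] at h19
    norm_num at h19
  have hm11 : 11 ≤ m := by
    rw [hm] at hEge
    exact (Nat.pow_le_pow_iff_right (by norm_num)).1 hEge
  have hdvdE : 2 ^ (m + 7) ∣ Nat.card Pg := by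
    rw [← hPcard, pow_add, ← hm, ← hE'card]
    exact Nat.mul_dvd_mul (Subgroup.card_dvd_of_le hE'k) (by norm_num)
  have hm11' : m = 11 := by have := hpow _ hdvdE; omega
  subst hm11'
  -- the Sylow subgroup
  obtain ⟨S⟩ : Nonempty (Sylow 2 Pg) := inferInstance
  obtain ⟨s, hs⟩ := IsPGroup.iff_card.1 S.2
  have hs18 : s = 18 := by
    refine le_antisymm (hpow _ (hs ▸ Subgroup.card_subgroup_dvd_card _)) ?_
    have h1 := (Nat.Prime.pow_dvd_iff_le_factorization Nat.prime_two Nat.card_pos.ne').1 hdvdE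
    have h2 := S.card_eq_multiplicity
    rw [hs] at h2
    have := Nat.pow_right_injective le_rfl h2
    omega
  subst hs18
  have hE'S : E' ≤ (S : Subgroup Pg) := by
    have hp : IsPGroup 2 E' := (E_isPGroup h hzz hzc).comap_of_injective Pg.subtype Subtype.coe_injective
    have hsup : IsPGroup 2 ((S : Subgroup Pg) ⊔ E' : Subgroup Pg) :=
      IsPGroup.to_sup_of_normal_right S.2 hp
    have heq := S.3 hsup le_sup_left
    exact le_trans le_sup_right heq.le
  set T := (S : Subgroup Pg).map Pg.subtype with hTdef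
  have hTcard : Nat.card T = 2 ^ 18 := by
    rw [hTdef, Subgroup.card_map_of_injective Subtype.coe_injective, hs]
  have hTsyl : Nat.card T = 2 ^ (Nat.card G).factorization 2 := by
    rw [hTcard]
    refine congrArg (fun n => 2 ^ n) ?_
    have h18 : 2 ^ 18 ∣ Nat.card G := hTcard ▸ Subgroup.card_subgroup_dvd_card T
    have h1 := (Nat.Prime.pow_dvd_iff_le_factorization Nat.prime_two Nat.card_pos.ne').1 h18
    have h2 : ¬ 2 ^ 19 ∣ Nat.card G := by rw [hG]; norm_num
    rw [Nat.Prime.pow_dvd_iff_le_factorization Nat.prime_two Nat.card_pos.ne'] at h2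
    omega
  have hET : E ≤ T := fun a ha => ⟨⟨a, hEP ha⟩, hE'S (Subgroup.mem_subgroupOf.2 ha), rfl⟩
  have hTP : T ≤ Pg := Subgroup.map_subtype_le _
  refine ⟨Sylow.ofCard T hTsyl, E, ?_, hm, fun a ha b hb => E_comm h hzc ha hb,
    fun a ha => E_sq h hzz hzc ha, ?_, ?_⟩
  · simpa using hET
  · intro x hx a ha
    exact hEnorm x (hTP (by simpa using hx)) a ha
  intro A hA hAc hAs
  replace hA : A ≤ T := by simpa using hA
  have hE_e : ∀ a ∈ E, ∃ v < 2048, e v = a := by
    intro a ha
    let f : Fin 2048 → E := fun v => ⟨e v.1, ev_mem v.1 11⟩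
    have hf : Function.Injective f := fun v w hvw =>
      Fin.ext (e_injective h hzz hzc v.2 w.2 (congrArg Subtype.val hvw))
    have := (Nat.bijective_iff_injective_and_card f).2 ⟨hf, by rw [Nat.card_fin, hm]; norm_num⟩
    obtain ⟨v, hv⟩ := this.2 ⟨a, ha⟩
    exact ⟨v.1, v.2, congrArg Subtype.val hv⟩
  have hFvec : ∀ j : Fin 23, F j = e (vec j.1) := by
    intro j
    obtain ⟨w, hw, hwe⟩ := hE_e (F j) (Subgroup.subset_closure ⟨j, rfl⟩)
    have hvl : vec j.1 < 2048 := vec_lt j.2
    have hxor : w ^^^ vec j.1 = 0 := by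
      refine h.eq_zero_of_fix (Nat.xor_lt_two_pow (n := 11) hw hvl) fun s hs => ?_
      rw [e_xor h hzz hzc, map_mul, Equiv.Perm.mul_apply]
      obtain ⟨h1, h2⟩ := h.F_pt j (show s < 128 by omega)
      obtain ⟨-, h3⟩ := h.ev_pt (vec j.1) 11 le_rfl s (by omega)
      have h4 := allBelow_iff.1 vec_ok j.1 j.2
      simp only [Bool.and_eq_true, allBelow_iff, Nat.beq_eq] at h4
      rw [h4.2 s hs, ← h2] at h3
      rw [show ρ (e (vec j.1)) ⟨pt s, pt_lt (by omega)⟩ = ρ (F j) ⟨pt s, pt_lt (by omega)⟩ from Fin.ext h3,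
        ← Equiv.Perm.mul_apply, ← map_mul, hwe, F_sq h hzz j, map_one, Equiv.Perm.one_apply]
    rw [← hwe, Nat.xor_eq_zero_iff.1 hxor]
  let φT : T →* Equiv.Perm (Fin 23) := φ.comp (Subgroup.inclusion hTP)
  have hker : ∀ x : T, φT x = 1 → ∃ v < 2048, e v = x := by
    intro x hx
    refine hE_e _ ?_
    obtain ⟨y, hy, hyx⟩ := Subgroup.mem_map.1 x.2
    have hy1 : y ∈ φ.ker := by
      have : y = Subgroup.inclusion hTP x := Subtype.ext hyx
      rw [this]; exact hx
    have hle : E' ≤ (S : Subgroup Pg) ⊓ φ.ker := le_inf hE'S hE'k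
    have heq : E' = (S : Subgroup Pg) ⊓ φ.ker := by
      refine Subgroup.eq_of_le_of_card_ge hle ?_
      rw [hE'card, hm]
      obtain ⟨i, hi⟩ := IsPGroup.iff_card.1 (S.2.to_le inf_le_left : IsPGroup 2 ((S : Subgroup Pg) ⊓ φ.ker : Subgroup Pg))
      have hd : 2 ^ (i + 7) ∣ Nat.card Pg := by
        rw [← hPcard, pow_add, ← hi]
        exact Nat.mul_dvd_mul (Subgroup.card_dvd_of_le inf_le_right) (by norm_num)
      rw [hi]
      exact Nat.pow_le_pow_right (by norm_num) (by have := hpow _ hd; omega)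
    have hyE : y ∈ E' := heq ▸ ⟨hy, hy1⟩
    rw [← hyx]
    exact hyE
  have hran : ∀ x : T, ∃ k < 128, ∀ j : Fin 23, (φT x j).1 = pim k j.1 := fun x =>
    ⟨κ (Subgroup.inclusion hTP x), hκlt _, fun j => rfl⟩
  have hconj : ∀ (x : T) (k : ℕ), k < 128 → (∀ j : Fin 23, (φT x j).1 = pim k j.1) →
      ∀ v < 2048, (x : G) * e v * (x : G)⁻¹ = e (mat k v 11) := by
    intro x k hk hxk v _
    have key : ∀ n ≤ 11, (x : G) * ev v n * (x : G)⁻¹ = e (mat k v n) := by
      intro n hn
      induction n with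
      | zero =>
        have : mat k v 0 = 0 := by unfold mat; rfl
        rw [this, ev, e, ev_zero]; group
      | succ n ih =>
        rw [mat_succ, ev]
        simp only [bit_iff]
        by_cases hb : v.testBit n = true
        · rw [if_pos hb, if_pos hb, e_xor h hzz hzc, ← ih (by omega)]
          have hb23 : bas n % 23 = bas n := Nat.mod_eq_of_lt (bas_lt (by omega))
          have h3 : (x : G) * F ⟨bas n % 23, Nat.mod_lt _ (by omega)⟩ * (x : G)⁻¹ = e (vec (pim k (bas n))) := by
            refine ((hFnorm (Subgroup.inclusion hTP x) _).trans (hFvec _)).trans ?_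
            refine congrArg (fun t => e (vec t)) ?_
            refine (hxk _).trans ?_
            show pim k (bas n % 23) = _
            rw [hb23]
          rw [← h3]; group
        · rw [if_neg hb, if_neg hb]; exact ih (by omega)
    exact key 11 le_rfl
  rcases card_lt_or_le hTcard φT e hker (fun v hv w hw => e_injective h hzz hzc hv hw) hran hconj A hA hAc hAs
    with hlt | hle
  · exact Or.inl (by simpa using hlt)
  · exact Or.inr fun a ha => by
      obtain ⟨v, -, hv⟩ := hle a ha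
      exact hv ▸ ev_mem v 11

end

end Cfsg.Agent.Lib.Fi23Frame52
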